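import Mathlib
import Cfsg.Agent.Lib.A12.Defs
import Cfsg.Agent.Lib.A16.SC

/-!
The Sylow 2-subgroup `SG = 2⁶ ⋊ D₈` of `A₁₂` as a table group, and its embedding in `HH`.
-/

set_option autoImplicit false
set_option Elab.async false
set_option maxRecDepth 100000

namespace CfsgLib.A12.Fm

open Subgroup Equiv Function CfsgLib.W2 CfsgLib.W2.TG CfsgLib.Tech CfsgLib.Y12
open CfsgLib.A16 (xok cAut AutG exists_aut)

theorem okE : TOk 64 Nat.xor fun a => a := xok 6
theorem okB : TOk 32 Nat.xor fun a => a := xok 5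

abbrev EG : Type := TG okE
abbrev BG : Type := TG okB

noncomputable section

instance : CommGroup EG := { (inferInstance : Group EG) with mul_comm := fun _ _ => ext' (Nat.xor_comm _ _) }
instance : CommGroup BG := { (inferInstance : Group BG) with mul_comm := fun _ _ => ext' (Nat.xor_comm _ _) }

theorem EG.sq (a : EG) : a * a = 1 := ext' (Nat.xor_self _)
theorem BG.sq (a : BG) : a * a = 1 := ext' (Nat.xor_self _)

def m8 : ℕ → ℕ → ℕ := tab2 3 7 8 0x213b3705a97e681fa54c8dec977053b3e21ade54c1fac688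
def i8 : ℕ → ℕ := tab1 3 7 0xdec688
def ac : ℕ → ℕ → ℕ := tab2 6 63 64 0xff7ef3fb6eb2f75e71f34e307d76d3796692755651714610be7ae3ba6aa2b65a61b24a203c72c3386282345241304200ffbdf3f79d71fbadb2f38d307db5d375955179a592718510beb9e3b69961baa9a2b289203cb1c334914138a182308100ff7ef3f75e71fb6eb2f34e30be7ae3b65a61ba6aa2b24a207d76d37556517966927146103c72c3345241386282304200ffbdf3fbadb2f79d71f38d30beb9e3baa9a2b69961b289207db5d379a5927595517185103cb1c338a182349141308100ffef7cdf6d74efae78cf2c707de75c5d65546da6584d2450beeb6c9e6964aeaa688e28603ce34c1c61442ca2480c2040ffdfbcef9eb8df5db4cf1cb07dd79c6d96985d55944d1490bedbacae9aa89e59a48e18a03cd38c2c92881c51840c1080ffdfbcdf5db4ef9eb8cf1cb0bedbac9e59a4ae9aa88e18a07dd79c5d55946d96984d14903cd38c1c51842c92880c1080ffef7cefae78df6d74cf2c70beeb6caeaa689e69648e28607de75c6da6585d65544d24503ce34c2ca2481c61440c2040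

theorem ok8 : TOk 8 m8 i8 :=
  (SOk.of_light (gs := [1, 2, 4]) (D := 2) (by decide +kernel)).tok (by decide +kernel)

/-- the dihedral group `S / E`: `1 = t 0 2`, `2 = t 0 4`, `4 = r 0 2 * r 1 3` -/
abbrev D8 : Type := TG ok8

def inS (a : ℕ) : ℕ :=
  Nat.add (ac (i8 (Nat.div a 64)) (Nat.mod a 64)) (Nat.mul 64 (i8 (Nat.div a 64)))

theorem okS : TOk 512 (sdm 64 Nat.xor m8 ac) inS :=
  (SOk.sd (n := 64) (k := 8) okE.toSOk ok8.toSOk (by decide +kernel)).tok (by decide +kernel)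

/-- the Sylow 2-subgroup of `A₁₂`; the number `e + 64 k` stands for `a e * d k` -/
abbrev SG : Type := TG okS

theorem card_SG : Nat.card SG = 2 ^ 9 := card_eq

theorem isPGroup_SG : IsPGroup 2 SG := IsPGroup.of_card card_SG

def gE : List EG := [o 1, o 2, o 4, o 8, o 16, o 32]
def gB : List BG := [o 1, o 2, o 4, o 8, o 16]
def gS : List SG := [o 1, o 2, o 4, o 8, o 16, o 32, o 64, o 128, o 256]

theorem gE_gen : genB gE 1 = true := by decide +kernel
theorem gB_gen : genB gB 1 = true := by decide +kernel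
theorem gS_gen : genB gS 1 = true := by decide +kernel

def eps : EG →* SG := homOf gE_gen (fun e => o e.v) (by decide +kernel) (by decide +kernel)
def pr : SG →* D8 := homOf gS_gen (fun p => o (Nat.div p.v 64)) (by decide +kernel) (by decide +kernel)
def sc : D8 →* SG := MonoidHom.mk' (fun r => o (Nat.mul 64 r.v)) (by decide +kernel)

/-- the part in `E` -/
def ge (p : SG) : EG := o p.v

theorem dec_S : ∀ p, eps (ge p) * sc (pr p) = p := by decide +kernel
theorem ge_eps : ∀ e, ge (eps e) = e := by decide +kernel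
theorem pr_eps : ∀ e, pr (eps e) = 1 := by decide +kernel
theorem pr_sc : ∀ r, pr (sc r) = r := by decide +kernel
theorem eps_inj : Injective eps := LeftInverse.injective ge_eps

theorem mem_E {p : SG} : p ∈ eps.range ↔ pr p = 1 :=
  ⟨fun ⟨e, h⟩ => h ▸ pr_eps e, fun h => ⟨ge p, by simpa [h] using dec_S p⟩⟩

theorem range_eps : eps.range = pr.ker := Subgroup.ext fun _ => mem_E

instance : eps.range.Normal := range_eps ▸ inferInstance

theorem gee {p : SG} (h : p ∈ eps.range) : eps (ge p) = p := by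
  obtain ⟨e, rfl⟩ := h; rw [ge_eps]

def cE : SG →* MulAut EG := cAut eps ge ge_eps fun s a =>
  gee (Normal.conj_mem inferInstance _ (MonoidHom.mem_range.2 ⟨a, rfl⟩) s)

theorem eps_cE (s : SG) (a : EG) : eps (cE s a) = s * eps a * s⁻¹ :=
  gee (Normal.conj_mem inferInstance _ (MonoidHom.mem_range.2 ⟨a, rfl⟩) s)

/-- the action of `D8` on `E` (it permutes the six bits: `1 = (0 1)(2 3)`, `2 = (0 1)(4 5)`, `4 = (0 2)(1 3)`) -/
def ph : D8 →* MulAut EG := cE.comp sc

theorem cE_eq (s : SG) : cE s = ph (pr s) := MulEquiv.ext fun a => eps_inj (by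
  change _ = eps (cE (sc (pr s)) a)
  rw [eps_cE, eps_cE]
  exact (by decide +kernel : ∀ s, ∀ a, s * eps a * s⁻¹ = sc (pr s) * eps a * (sc (pr s))⁻¹) s a)

theorem eps_ph (s : SG) (a : EG) : eps (ph (pr s) a) = s * eps a * s⁻¹ := cE_eq s ▸ eps_cE s a

theorem ge_mul (p q : SG) : ge (p * q) = ge p * ph (pr p) (ge q) := eps_inj (by
  have h := dec_S (p * q)
  rw [map_mul, map_mul, ← eq_mul_inv_iff_mul_eq] at h
  rw [h, map_mul, ← pr_sc (pr p), eps_ph, pr_sc]
  nth_rw 1 [← dec_S p, ← dec_S q]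
  group)

/-! ### the embedding in `HH` -/

def ee : EG →* HH := MonoidHom.mk' (fun e => a e.v) fun x y => a_xor x.v y.v

def lr : D8 →* HH := MonoidHom.mk' (fun k => wd [t 0 2, t 0 4, r 0 2 * r 1 3] k.v) (by decide +kernel)

theorem lr_ee (r : D8) (a : EG) : lr r * ee a * (lr r)⁻¹ = ee (ph r a) :=
  DFunLike.congr_fun (hom_ext gE_gen (φ := (MulAut.conj (lr r)).toMonoidHom.comp ee)
    (ψ := ee.comp (ph r).toMonoidHom)
    ((by decide +kernel : ∀ r, ∀ a ∈ gE, lr r * ee a * (lr r)⁻¹ = ee (ph r a)) r)) a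

def iw : SG →* HH := MonoidHom.mk' (fun p => ee (ge p) * lr (pr p)) fun p q => by
  rw [ge_mul, map_mul, map_mul, map_mul, ← lr_ee]; group

theorem iw_eps (e : EG) : iw (eps e) = a e.v := by
  change ee _ * lr _ = _; rw [ge_eps, pr_eps, map_one, mul_one]; rfl

/-! ### the subgroup `B = F`: even vectors of `F₂⁶`, the mask consists of the bits `1, …, 5` -/

def bet : BG →* SG := homOf gB_gen (fun k => o (tab1 9 511 0x1f8f0fe7c399c066305faf1fefc79bc166b047a319ecc61b010680078309e4c219000600 k.v))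
  (by decide +kernel) (by decide +kernel)

/-- the part in `B` -/
def gb (p : SG) : BG := o (tab1 5 31 0xad6949ce52ad6949ce526b58c5ad4a6b58c5ad4aad6949ce52ad6949ce526b58c5ad4a6b58c5ad4abdaf6bdaf68c2308c2307b9ee7b9ee4a1284a128bdaf6bdaf68c2308c2307b9ee7b9ee4a1284a128ef3bcdeb7aef3bcdeb7aef3bcdeb7aef3bcdeb7a290a418862290a418862290a418862290a418862fffdefffdece718ce718fffdefffdece718ce71839cc639cc6084000840039cc639cc60840008400ad6949ce52ad6949ce526b58c5ad4a6b58c5ad4aad6949ce52ad6949ce526b58c5ad4a6b58c5ad4abdaf6bdaf68c2308c2307b9ee7b9ee4a1284a128bdaf6bdaf68c2308c2307b9ee7b9ee4a1284a128ef3bcdeb7aef3bcdeb7aef3bcdeb7aef3bcdeb7a290a418862290a418862290a418862290a418862fffdefffdece718ce718fffdefffdece718ce71839cc639cc6084000840039cc639cc60840008400 p.v)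

/-- representatives of the cosets of `B`: the words in `r 0 1, r 2 3, r 4 5, r 0 2 * r 1 3` -/
def tr (j : ℕ) : SG := o (tab1 9 511 0x8ac52231082c1203000a8502210028100200 j)

def tj (s : SG) : ℕ := tab1 4 15 0x8998abbaabba8998cddceffeeffecddccddceffeeffecddc8998abbaabba89988998abbaabba8998cddceffeeffecddccddceffeeffecddc8998abbaabba89988998abbaabba8998cddceffeeffecddccddceffeeffecddc8998abbaabba89988998abbaabba8998cddceffeeffecddccddceffeeffecddc8998abbaabba89980110233223320110455467766776455445546776677645540110233223320110011023322332011045546776677645544554677667764554011023322332011001102332233201104554677667764554455467766776455401102332233201100110233223320110455467766776455445546776677645540110233223320110 s.v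

theorem gb_bet : ∀ b, gb (bet b) = b := by decide +kernel
theorem bet_inj : Injective bet := LeftInverse.injective gb_bet
theorem dec_T : ∀ s, tj s < 16 ∧ bet (gb s) * tr (tj s) = s := by decide +kernel

def zb : BG := o 31
def tb (p q : Fin 6) : BG := o (Nat.shiftRight (Nat.xor (Nat.shiftLeft 1 p.val) (Nat.shiftLeft 1 q.val)) 1)
def bl (i : Fin 3) : Fin 6 := ⟨2 * i, by omega⟩
def br (i : Fin 3) : Fin 6 := ⟨2 * i + 1, by omega⟩
def ub (i : Fin 3) : BG := tb (bl i) (br i)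
/-- `r (2i) (2i+1)` -/
def xs (i : Fin 3) : SG := o (Nat.shiftLeft 1 (Nat.mul 2 i.val))
def ze : EG := o 63
def zs : SG := o 63

theorem iw_tb : ∀ p q, iw (bet (tb p q)) = t p q := by decide +kernel
theorem iw_xs : ∀ i, iw (xs i) = r (bl i) (br i) := by decide +kernel
theorem z_facts : bet zb = zs ∧ eps ze = zs ∧ iw zs = α ∧ zs * zs = 1 ∧ zs ≠ 1 ∧
    ∀ i, pr (bet (ub i)) = 1 := by decide +kernel
theorem zs_comm : ∀ s : SG, s * zs = zs * s := by decide +kernel
theorem tb_mul : ∀ p q s, tb p q * tb q s = tb p s := by decide +kernel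

theorem bet_s (b : BG) : sg (iw (bet b)) = 1 :=
  DFunLike.congr_fun (hom_ext gB_gen (φ := (sg.comp iw).comp bet) (ψ := 1) fun g hg => Perm.ext
    ((by decide +kernel : ∀ g ∈ gB, ∀ q, sg (iw (bet g)) q = q) g hg)) b

/-- the permutation of the six pairs induced by `tr j` -/
def sgt (j i : ℕ) : ℕ := tab2 3 7 6 0x9414e52139416a521ab014ec213b016ac21a9530654c895a065688b1306c4c8b1a06c688 j i

theorem tr_facts : ∀ j < 16, (∀ q : Fin 6, (sg (iw (tr j)) q : ℕ) = sgt j q) ∧
    ((∀ q : Fin 6, sgt j q = q) → tr j = 1) := by decide +kernel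

theorem mem_B {p : SG} : p ∈ bet.range ↔ sg (iw p) = 1 := by
  refine ⟨fun ⟨b, h⟩ => h ▸ bet_s b, fun h => ⟨gb p, ?_⟩⟩
  obtain ⟨h1, h2⟩ := dec_T p
  have h3 := congrArg (fun x => sg (iw x)) h2
  simp only [map_mul, h, bet_s, one_mul] at h3
  have h4 := (tr_facts _ h1).2 fun q => by rw [← (tr_facts _ h1).1, h3]; rfl
  rwa [h4, mul_one] at h2

theorem range_bet : bet.range = (sg.comp iw).ker := Subgroup.ext fun _ => mem_B

instance : bet.range.Normal := range_bet ▸ inferInstance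

theorem iw_inj : Injective iw := (injective_iff_map_eq_one _).2 fun p h => by
  obtain ⟨b, rfl⟩ := mem_B.2 (show sg (iw p) = 1 by rw [h, map_one])
  exact (by decide +kernel : ∀ b, iw (bet b) = 1 → bet b = 1) b h

theorem iwb_inj {a b : BG} (h : iw (bet a) = iw (bet b)) : a = b := bet_inj (iw_inj h)

theorem gbb {p : SG} (h : p ∈ bet.range) : bet (gb p) = p := by
  obtain ⟨e, rfl⟩ := h; rw [gb_bet]

def cB : SG →* MulAut BG := cAut bet gb gb_bet fun s a =>
  gbb (Normal.conj_mem inferInstance _ (MonoidHom.mem_range.2 ⟨a, rfl⟩) s)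

theorem bet_cB (s : SG) (a : BG) : bet (cB s a) = s * bet a * s⁻¹ :=
  gbb (Normal.conj_mem inferInstance _ (MonoidHom.mem_range.2 ⟨a, rfl⟩) s)

theorem cB_bet (b : BG) : cB (bet b) = 1 := MulEquiv.ext fun a => bet_inj (by
  rw [bet_cB, ← map_mul, mul_comm, map_mul, mul_inv_cancel_right]; rfl)

theorem cB_eq (s : SG) : ∃ j < 16, cB s = cB (tr j) := ⟨_, (dec_T s).1, by
  nth_rw 1 [← (dec_T s).2]; rw [map_mul, cB_bet, one_mul]⟩

/-- the kernel of `sg` is the image of `B` -/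
theorem exists_b {h : HH} (e : sg h = 1) : ∃ b, iw (bet b) = h :=
  hallP (f := fun k v => Nat.beq (Nat.div v 2) (Nat.div k 2)) (P := fun h => ∃ b, iw (bet b) = h)
    (by decide +kernel) h fun k hk => by
      rw [Nat.beq_eq]
      have := sg_val h ⟨k / 2, by omega⟩
      rw [e, pt_half h hk] at this
      exact this.symm

theorem iw_mem (s : SG) : iw s ∈ SS :=
  (eq_top_of_genB gS_gen (S := SS.comap iw)
    (by decide +kernel : ∀ g ∈ gS, iw g ∈ SS)).ge (mem_top s)

theorem exists_iw {h : HH} (hh : h ∈ SS) : ∃ s, iw s = h := by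
  have k : ∀ a b : Fin 6, a ≠ b ∧ a.1 / 2 = b.1 / 2 ∧ a.1 / 2 ≠ 2 → ∀ c d : Fin 6,
      c ≠ d ∧ c.1 / 2 = d.1 / 2 ∧ c.1 / 2 ≠ 2 ∧ a.1 / 2 ≠ c.1 / 2 → ∀ e f : Fin 6,
      e ≠ f ∧ e.1 / 2 = 2 ∧ f.1 / 2 = 2 → ∃ j < 16, ∀ q : Fin 6, (![a, b, c, d, e, f] q : ℕ) = sgt j q := by
    decide +kernel
  have h1 : sg h ∈ T6 := hh
  obtain ⟨j, hj, e⟩ := k (sg h 0) (sg h 1) ⟨(sg h).injective.ne (by decide), (h1.1 0 1).2 rfl,
      fun e => absurd ((h1.2 0).1 e) (by decide)⟩ (sg h 2) (sg h 3)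
    ⟨(sg h).injective.ne (by decide), (h1.1 2 3).2 rfl, fun e => absurd ((h1.2 2).1 e) (by decide),
      fun e => absurd ((h1.1 0 2).1 e) (by decide)⟩ (sg h 4) (sg h 5)
    ⟨(sg h).injective.ne (by decide), (h1.2 4).2 rfl, (h1.2 5).2 rfl⟩
  have h2 : sg h = sg (iw (tr j)) := Perm.ext fun q => Fin.ext (by
    rw [(tr_facts j hj).1, ← e q]
    fin_cases q <;> rfl)
  obtain ⟨b, hb⟩ := exists_b (h := h * (iw (tr j))⁻¹) (by rw [map_mul, map_inv, h2, mul_inv_cancel])
  exact ⟨bet b * tr j, by rw [map_mul, hb, inv_mul_cancel_right]⟩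

/-- the model is isomorphic to `SS` -/
def eS : SG ≃* SS := MulEquiv.ofBijective (iw.codRestrict SS iw_mem)
  ⟨fun _ _ e => iw_inj (congrArg Subtype.val e), fun h => (exists_iw h.2).imp fun _ e => Subtype.ext e⟩

theorem eS_coe (s : SG) : (eS s : HH) = iw s := rfl

/-! ### two automorphisms -/

/-- parity of the sign changes of the last two pairs -/
def cht (s : SG) : Bool := bit (pr s).v 1

theorem cht_mul (p q : SG) : cht (p * q) = xor (cht p) (cht q) := by
  unfold cht; rw [map_mul]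
  exact (by decide +kernel : ∀ a b : D8, bit (a * b).v 1 = xor (bit a.v 1) (bit b.v 1)) _ _

def chb (b : BG) : Bool := cht (bet b)

/-- `s ↦ s z ^ χ(s)` -/
def twt : SG →* SG := homOf gS_gen (fun s => if cht s then s * zs else s) (by decide +kernel) (by decide +kernel)

/-- the identity on `E`, `t 0 2 ↦ t 0 2 * t 4 5`, `t 0 4 ↦ t 0 4`, `w ↦ w * r 4 5` -/
def twa : SG →* SG := homOf gS_gen (fun s => eps (ge s) * o (tab1 9 511 0xe8682c11078200e000 (pr s).v))
  (by decide +kernel) (by decide +kernel)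

/-- the four twists -/
def tw2 (δ ε : Bool) : SG →* SG := (if δ then twa else MonoidHom.id SG).comp (if ε then twt else MonoidHom.id SG)

theorem tw2_tw2 : ∀ δ ε s, tw2 δ ε (tw2 δ ε s) = s := by decide +kernel

theorem tw2_surj (δ ε : Bool) : Surjective (tw2 δ ε) := fun s => ⟨_, tw2_tw2 δ ε s⟩

theorem tw2_bet : ∀ δ ε b, bet (gb (tw2 δ ε (bet b))) = tw2 δ ε (bet b) := by decide +kernel

/-- the twisted transpositions -/
def tbe (δ ε : Bool) (p q : Fin 6) : BG := gb (tw2 δ ε (bet (tb p q)))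

instance {P : Type} [Group P] [DecidableEq P] [∀ f g : P → P, Decidable (∀ a, f a = g a)] :
    DecidableEq (MulAut P) := fun f g => decidable_of_iff (∀ a, f a = g a) MulEquiv.ext_iff.symm

end

variable {G : Type*} [Group G]

/-- a Sylow embedding -/
structure Sj (J : SG →* G) : Prop where
  inj : Injective J
  syl : IsSylowIn 2 J.range ⊤

theorem Sj.comp {J : SG →* G} (h : Sj J) {α : SG →* SG} (hα : Surjective α) : Sj (J.comp α) :=
  ⟨h.inj.comp (Finite.injective_iff_surjective.2 hα), by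
    rw [MonoidHom.range_comp, MonoidHom.range_eq_top.2 hα, ← MonoidHom.range_eq_map]; exact h.syl⟩

theorem Sj.of (σ : Sy G) : Sj (σ.J.comp eS.toMonoidHom) :=
  ⟨σ.inj.comp eS.injective, by
    rw [MonoidHom.range_comp, (MonoidHom.range_eq_top (f := eS.toMonoidHom)).2 eS.surjective,
      ← MonoidHom.range_eq_map]; exact σ.syl⟩

/-- the Sylow datum of a Sylow embedding -/
noncomputable def Sj.sy {J : SG →* G} (h : Sj J) : Sy G :=
  ⟨J.comp eS.symm.toMonoidHom, h.inj.comp eS.symm.injective, by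
    rw [MonoidHom.range_comp, (MonoidHom.range_eq_top (f := eS.symm.toMonoidHom)).2 eS.symm.surjective,
      ← MonoidHom.range_eq_map]; exact h.syl⟩

theorem Sj.sy_j {J : SG →* G} (h : Sj J) (s : SG) : h.sy.j (iw s) = J s := by
  rw [← eS_coe, Sy.j_coe]
  exact congrArg J (eS.symm_apply_apply s)

theorem Sj.autG [Finite G] {J : SG →* G} (h : Sj J) {P : Type*} [Group P] {β : P →* SG}
    (hβ : Injective β) {c : SG →* MulAut P} (hc : ∀ s a, β (c s a) = s * β a * s⁻¹) :
    IsSylowIn 2 c.range (AutG (J.comp β)) := by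
  obtain ⟨θ, h1, h2⟩ := exists_aut (j := J.comp β) (h.inj.comp hβ)
  have h3 : ∀ s a, W2.Rel (J.comp β) (J s) a (c s a) := fun s a => by simp [W2.Rel, hc]
  have h4 : J.range ≤ normalizer ((J.comp β).range : Set G) := by
    rintro _ ⟨s, rfl⟩
    exact mem_normalizer_of_forall (by rintro _ ⟨a, rfl⟩; exact ⟨_, Eq.symm (h3 s a)⟩)
  have h5 := A16.IsSylowIn.map' (IsSylowIn.of_sylow_top (h.syl.of_le h4 le_top).toSylow) θ
  rw [h2] at h5
  convert h5 using 1
  ext d
  refine ⟨fun ⟨s, e⟩ => ⟨⟨J s, h4 ⟨s, rfl⟩⟩, ⟨s, rfl⟩, e ▸ MulEquiv.ext fun a =>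
    (h1 _ a).uniq (h.inj.comp hβ) (h3 s a) rfl⟩, fun ⟨n, ⟨s, e⟩, e'⟩ => ⟨s, e' ▸ MulEquiv.ext fun a =>
    (h3 s a).uniq (h.inj.comp hβ) (e ▸ h1 n a) rfl⟩⟩

theorem Sj.autB [Finite G] {J : SG →* G} (h : Sj J) : IsSylowIn 2 cB.range (AutG (J.comp bet)) :=
  h.autG bet_inj bet_cB

theorem Sj.autE [Finite G] {J : SG →* G} (h : Sj J) : IsSylowIn 2 cE.range (AutG (J.comp eps)) :=
  h.autG eps_inj eps_cE

/-- `d` is a transvection with centre `a` -/
def Tv (d : MulAut BG) (a : BG) : Prop := a ≠ 1 ∧ d ≠ 1 ∧ ∀ b, d b = b ∨ d b = b * a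

theorem Tv.eq {s : SG} {a : BG} (h : Tv (cB s) a) : ∃ i, cB s = cB (xs i) ∧ a = ub i := by
  obtain ⟨j, hj, e⟩ := cB_eq s
  rw [e] at h ⊢
  exact (by decide +kernel : ∀ j < 16, ∀ a : BG, a ≠ 1 → cB (tr j) ≠ 1 →
    (∀ b, cB (tr j) b = b ∨ cB (tr j) b = b * a) → ∃ i, cB (tr j) = cB (xs i) ∧ a = ub i) j hj a h.1 h.2.1 h.2.2

end CfsgLib.A12.Fm
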